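import Mathlib
import Cfsg.Agent.Lib.Helper19.SPU.Defs
import Cfsg.Agent.Lib.Helper99.AltBasis

/-!
# Project SPU (S2316): packages [STD], [CONG], [EVEN] (helper47)

Every symplectic form is congruent to the standard one `J`.
-/

set_option autoImplicit false

namespace Cfsg.Agent.Lib.Helper47.SPU

open Matrix Cfsg.Agent.Lib.Helper19.SPU

universe u

section

variable {F : Type u} [Field F] {n : Type} [Fintype n] [DecidableEq n]

/-- the bilinear form of a symplectic Gram matrix is alternating -/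
theorem toBilin'_alt (K : Matrix n n F) (hK : IsSymp K) : (Matrix.toBilin' K).IsAlt := by
  intro x
  rw [Matrix.toBilin'_apply, ← Finset.sum_product']
  refine Finset.sum_involution (fun p _ => (p.2, p.1)) ?_ ?_ ?_ ?_
  · intro p _
    have h : K p.2 p.1 = -K p.1 p.2 := by
      have h1 := congrFun (congrFun hK.1 p.1) p.2
      rw [Matrix.transpose_apply, Matrix.neg_apply] at h1
      exact h1
    simp only
    rw [h]
    ring
  · intro p _ hne heq
    have h12 : p.2 = p.1 := congrArg Prod.fst heq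
    apply hne
    rw [h12, hK.2.1, mul_zero, zero_mul]
  · intro p _
    exact Finset.mem_univ _
  · intro p _
    rfl

end

/-- [STD] -/
theorem pkgStd : PkgStd.{u} := by
  intro F _ n _ _ K hK
  classical
  have hAlt := toBilin'_alt K hK
  obtain ⟨m, k, b, hef, hee, hff, hrad⟩ :=
    Cfsg.Agent.Lib.Helper99.alt_basis (Matrix.toBilin' K) hAlt
  -- the radical is trivial
  have hk : IsEmpty (Fin k) := by
    rw [← not_nonempty_iff]
    rintro ⟨j⟩
    have hz : b (Sum.inr j) ≠ 0 := b.ne_zero _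
    apply hz
    have h1 : ∀ v, (b (Sum.inr j)) ⬝ᵥ K *ᵥ v = 0 := fun v => by
      rw [← Matrix.toBilin'_apply']
      exact hrad j v
    have h2 : Matrix.vecMul (b (Sum.inr j)) K = 0 := by
      funext i
      have h3 := h1 (Pi.single i 1)
      rw [Matrix.dotProduct_mulVec] at h3
      simpa using h3
    obtain ⟨U, hU⟩ := hK.2.2
    have h4 : K * (↑U⁻¹ : Matrix n n F) = 1 := by
      rw [← hU]
      exact U.mul_inv
    have h5 : b (Sum.inr j) =
        Matrix.vecMul (Matrix.vecMul (b (Sum.inr j)) K) (↑U⁻¹ : Matrix n n F) := by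
      rw [Matrix.vecMul_vecMul, h4, Matrix.vecMul_one]
    rw [h5, h2, Matrix.zero_vecMul]
  let σ : (Fin m ⊕ Fin m) ⊕ Fin k ≃ Fin m ⊕ Fin m :=
    (Equiv.sumEmpty _ _).trans (Equiv.sumComm _ _)
  have hσl : ∀ i : Fin m, σ.symm (Sum.inl i) = Sum.inl (Sum.inr i) := fun i => rfl
  have hσr : ∀ i : Fin m, σ.symm (Sum.inr i) = Sum.inl (Sum.inl i) := fun i => rfl
  obtain ⟨b', hb'⟩ : ∃ b' : Module.Basis (Fin m ⊕ Fin m) F (n → F), b' = b.reindex σ := ⟨_, rfl⟩
  have hb'a : ∀ a, b' a = b (σ.symm a) := fun a => by rw [hb']; exact Module.Basis.reindex_apply _ _ _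
  refine ⟨m, (Pi.basisFun F n).toMatrix b', b'.toMatrix (Pi.basisFun F n), ?_,
    Module.Basis.toMatrix_mul_toMatrix_flip _ _, Module.Basis.toMatrix_mul_toMatrix_flip _ _, ?_⟩
  · have h1 := Module.finrank_eq_card_basis b'
    rw [Module.finrank_fintype_fun_eq_card] at h1
    rw [h1, Fintype.card_sum, Fintype.card_fin]
    omega
  · have h1 := LinearMap.BilinForm.toMatrix_mul_basis_toMatrix (Pi.basisFun F n) b'
      (Matrix.toBilin' K)
    rw [LinearMap.BilinForm.toMatrix_basisFun, LinearMap.BilinForm.toMatrix'_toBilin'] at h1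
    rw [h1]
    ext a c
    rw [LinearMap.BilinForm.toMatrix_apply, hb'a, hb'a]
    rcases a with i | i <;> rcases c with j | j
    · rw [hσl, hσl, hff]
      simp [Matrix.J]
    · rw [hσl, hσr, ← hAlt.neg_eq, hef]
      by_cases h : i = j
      · subst h
        simp [Matrix.J]
      · have h' : ¬ j = i := fun e => h e.symm
        simp [Matrix.J, Matrix.one_apply, h, h']
    · rw [hσr, hσl, hef]
      simp [Matrix.J, Matrix.one_apply]
    · rw [hσr, hσr, hee]
      simp [Matrix.J]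

/-- [CONG] -/
theorem pkgCong : PkgCong.{u} := by
  intro F _ n n' _ _ _ _ K K' hK hK' hcard
  obtain ⟨m, P₁, Q₁, hc₁, hPQ₁, hQP₁, hJ₁⟩ := pkgStd F n K hK
  obtain ⟨m', P₂, Q₂, hc₂, hPQ₂, hQP₂, hJ₂⟩ := pkgStd F n' K' hK'
  have hm : m = m' := by omega
  subst hm
  refine ⟨P₁ * Q₂, P₂ * Q₁, ?_, ?_, ?_⟩
  · rw [Matrix.mul_assoc, ← Matrix.mul_assoc Q₂, hQP₂, Matrix.one_mul, hPQ₁]
  · rw [Matrix.mul_assoc, ← Matrix.mul_assoc Q₁, hQP₁, Matrix.one_mul, hPQ₂]
  · have h1 : K' = Q₂ᵀ * Matrix.J (Fin m) F * Q₂ := by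
      rw [← hJ₂]
      have h2 : Q₂ᵀ * (P₂ᵀ * K' * P₂) * Q₂ = (P₂ * Q₂)ᵀ * K' * (P₂ * Q₂) := by
        rw [Matrix.transpose_mul]
        simp only [Matrix.mul_assoc]
      rw [h2, hPQ₂, Matrix.transpose_one, Matrix.one_mul, Matrix.mul_one]
    rw [h1, ← hJ₁, Matrix.transpose_mul]
    simp only [Matrix.mul_assoc]

/-- [EVEN] -/
theorem pkgEven : PkgEven.{u} := by
  intro F _ n _ _ K hK
  obtain ⟨m, P₁, Q₁, hc₁, -⟩ := pkgStd F n K hK
  exact ⟨m, by omega⟩

end Cfsg.Agent.Lib.Helper47.SPU
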